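import Groth.Agent.GrpField.SchImgExists
import Groth.Agent.GrpField.Irreducible
import Groth.Agent.Rigid.FibreTranslate
import Groth.Agent.ClosedRep.Over
import Groth.Agent.WeilLib.Trdeg
import Groth.Agent.GeomRedPull.Field
import Mathlib.AlgebraicGeometry.Geometrically.Integral

/-!
# The maximal abelian subvariety of a commutative group scheme over a field
-/

universe u

open CategoryTheory CategoryTheory.Limits MonoidalCategory CartesianMonoidalCategory MonObj GrpObj AlgebraicGeometry

namespace Groth.Agent.MaxAb

theorem isMonHom_mul {C : Type*} [Category C] [CartesianMonoidalCategory C] [BraidedCategory C]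
    {A G : C} [MonObj A] [MonObj G] [IsCommMonObj G] (f g : A ⟶ G) [IsMonHom f] [IsMonHom g] :
    IsMonHom (f * g) where
  one_hom := by
    rw [MonObj.comp_mul, IsMonHom.one_hom, IsMonHom.one_hom, one_eq_one, _root_.one_mul]
  mul_hom := by
    rw [MonObj.comp_mul, IsMonHom.mul_hom, IsMonHom.mul_hom,
      show (μ[G] : G ⊗ G ⟶ G) = fst G G * snd G G by rw [Hom.mul_def, lift_fst_snd, Category.id_comp],
      MonObj.comp_mul, MonObj.comp_mul, MonObj.comp_mul, tensorHom_fst, tensorHom_snd,
      tensorHom_fst, tensorHom_snd, tensorHom_fst, tensorHom_snd, MonObj.comp_mul, MonObj.comp_mul,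
      _root_.mul_mul_mul_comm]

variable {k : Type u} [Field k]

theorem geometricallyIntegral_id : GeometricallyIntegral (𝟙 (Spec (CommRingCat.of k))) := by
  refine ⟨fun K _ y Z fst snd h => ?_⟩
  have : IsIso snd := h.isIso_snd_of_isIso
  exact IsIntegral.of_isIso (inv snd)

variable (G : Over (Spec (CommRingCat.of k))) [GrpObj G] [LocallyOfFiniteType G.hom]

/-- `n` is the dimension of an abelian subvariety of `G`. -/
def IsDim (n : ℕ) : Prop :=
  ∃ (M : Over (Spec (CommRingCat.of k))) (_ : GrpObj M) (i : M ⟶ G), IsMonHom i ∧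
    IsClosedImmersion i.left ∧ IsProper M.hom ∧ GeometricallyIntegral M.hom ∧
      ∃ ξ : M.left, closure ({ξ} : Set M.left) = Set.univ ∧ WeilCoh.pdim G.left (i.left ξ) = n

theorem exists_isDim : ∃ n, IsDim G n := by
  have : IsSeparated G.hom := ClosedRep.isSeparated_of_field k G
  let one := 𝟙_ (Over (Spec (CommRingCat.of k)))
  have : IsProper one.hom := inferInstanceAs (IsProper (𝟙 (Spec (CommRingCat.of k))))
  have : GeometricallyIntegral one.hom := geometricallyIntegral_id
  have : IsClosedImmersion (η[G] : one ⟶ G).left := by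
    have : IsClosedImmersion ((η[G] : one ⟶ G).left ≫ G.hom) := by
      rw [Over.w]; exact inferInstanceAs (IsClosedImmersion (𝟙 (Spec (CommRingCat.of k))))
    exact IsClosedImmersion.of_comp _ G.hom
  have : Subsingleton one.left := inferInstanceAs (Subsingleton (PrimeSpectrum k))
  obtain ⟨ξ⟩ : Nonempty one.left := inferInstanceAs (Nonempty (Spec (CommRingCat.of k)))
  exact ⟨_, one, inferInstance, η[G], inferInstance, ‹_›, ‹_›, ‹_›, ξ,
    Set.eq_univ_of_forall fun z => Subsingleton.elim ξ z ▸ subset_closure rfl, rfl⟩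

theorem exists_bound : ∃ N, ∀ n, IsDim G n → n ≤ N := by
  have : IsLocallyNoetherian G.left := LocallyOfFiniteType.isLocallyNoetherian G.hom
  obtain ⟨z⟩ : Nonempty (Spec (CommRingCat.of k)) := inferInstance
  let e : G.left := (η[G] : 𝟙_ (Over (Spec (CommRingCat.of k))) ⟶ G).left z
  obtain ⟨U, hU, heU, -⟩ := exists_isAffineOpen_mem_and_subset (show e ∈ (⊤ : G.left.Opens) from trivial)
  have : IsNoetherianRing Γ(G.left, U) := IsLocallyNoetherian.component_noetherian ⟨U, hU⟩
  have : TopologicalSpace.NoetherianSpace ↥(U : Scheme.{u}) := noetherianSpace_of_isAffineOpen U hU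
  have hfin : {w : (U : Scheme.{u}) | closure {w} ∈ irreducibleComponents (U : Scheme.{u})}.Finite :=
    TopologicalSpace.NoetherianSpace.finite_irreducibleComponents.preimage
      (fun a _ b _ (h : closure {a} = closure {b}) =>
        ((isGenericPoint_closure (x := a)).eq (h ▸ isGenericPoint_closure (x := b))))
  refine ⟨hfin.toFinset.sup fun w => WeilCoh.pdim G.left (U.ι w), ?_⟩
  rintro n ⟨M, _, i, _, _, _, _, ξ, hξ, rfl⟩
  have h1 : i.left ξ ⤳ e := by
    have : (η[G] : 𝟙_ (Over (Spec (CommRingCat.of k))) ⟶ G).left = η[M].left ≫ i.left := by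
      rw [← Over.comp_left, IsMonHom.one_hom i]
    rw [show e = i.left (η[M].left z) from congr($this z)]
    exact (specializes_iff_mem_closure.2 (hξ ▸ trivial)).map i.left.continuous
  obtain ⟨wU, hη, hspec⟩ := DomLib.exists_max (X := (U : Scheme.{u})) ⟨_, h1.mem_open U.2 heU⟩
  refine le_trans ?_ (Finset.le_sup (f := fun w => WeilCoh.pdim G.left (U.ι w))
    (hfin.mem_toFinset.2 hη))
  exact WeilLib.pdim_le G.hom (hspec.map U.ι.continuous)

theorem exists_maximal [IsCommMonObj G] :
    ∃ (M : Over (Spec (CommRingCat.of k))) (_ : GrpObj M) (i : M ⟶ G), IsMonHom i ∧ IsClosedImmersion i.left ∧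
      IsProper M.hom ∧ GeometricallyIntegral M.hom ∧
      ∀ (A : Over (Spec (CommRingCat.of k))) [GrpObj A] [IsProper A.hom] [GeometricallyReduced A.hom] [ConnectedSpace ↥A.left]
        (φ : A ⟶ G), IsMonHom φ → ∃ ψ : A ⟶ M, ψ ≫ i = φ := by
  classical
  have : IsSeparated G.hom := ClosedRep.isSeparated_of_field k G
  obtain ⟨N, hN⟩ := exists_bound G
  obtain ⟨n₀, hn₀⟩ := exists_isDim G
  have hn := Nat.findGreatest_spec (hN n₀ hn₀) hn₀
  obtain ⟨M, hM, i, hi, hic, hMp, hMi, ξ, hξ, hdim⟩ := hn
  refine ⟨M, hM, i, hi, hic, hMp, hMi, fun A hA hAp hAr hAc φ hφ => ?_⟩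
  have : IsIntegral M.left := GeometricallyIntegral.isIntegral_of_subsingleton M.hom
  let ψ : M ⊗ A ⟶ G := (fst M A ≫ i) * (snd M A ≫ φ)
  have : IsMonHom ψ := isMonHom_mul _ _
  have : GeometricallyIrreducible A.hom := GrpField.geometricallyIrreducible_of_connected A
  have : GeometricallyIntegral A.hom :=
    GeometricallyIntegral.of_geometricallyReduced_of_geometricallyIrreducible _
  have : IsProper (M ⊗ A).hom := inferInstanceAs (IsProper (pullback.fst M.hom A.hom ≫ M.hom))
  have : IsIntegral A.left := GeometricallyIntegral.isIntegral_of_subsingleton A.hom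
  have : IsLocallyNoetherian A.left := LocallyOfFiniteType.isLocallyNoetherian A.hom
  have : Flat A.hom := inferInstance
  have : IsLocallyNoetherian M.left := LocallyOfFiniteType.isLocallyNoetherian M.hom
  have : IsIntegral (M ⊗ A).left := inferInstanceAs (IsIntegral (pullback M.hom A.hom))
  have : GeometricallyReduced (M ⊗ A).hom :=
    GeomRedPull.geometricallyReduced_pullback M.hom A.hom
  have : IsProper (ψ.left ≫ G.hom) := by rw [Over.w]; infer_instance
  have : IsProper ψ.left := IsProper.of_comp ψ.left G.hom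
  obtain ⟨M', hM', i', g, hi', hg, hgi, hi'c, hgd, hgq, hgs⟩ := GrpField.SchImg.exists_image ψ
  have : LocallyOfFiniteType M'.hom := by rw [← Over.w i']; infer_instance
  have : IsSeparated M'.hom := by rw [← Over.w i']; infer_instance
  have : UniversallyClosed (g.left ≫ M'.hom) := by rw [Over.w]; infer_instance
  have : UniversallyClosed M'.hom := UniversallyClosed.of_comp_surjective g.left M'.hom
  have : IsProper M'.hom := ⟨⟩
  have : ConnectedSpace M'.left := g.left.surjective.connectedSpace g.left.continuous
  have : GeometricallyIrreducible M'.hom := GrpField.geometricallyIrreducible_of_connected M'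
  have : GeometricallyReduced M'.hom := by
    refine ⟨fun K _ y Z p₁ p₂ h => ?_⟩
    have : Flat p₁ := MorphismProperty.of_isPullback h.flip (inferInstance : Flat y)
    let P := pullback g.left p₁
    have big : IsPullback (pullback.fst g.left p₁) (pullback.snd g.left p₁ ≫ p₂) (M ⊗ A).hom y := by
      rw [← Over.w g]
      exact (IsPullback.of_hasPullback g.left p₁).paste_vert h
    have : IsReduced P := GeometricallyReduced.geometrically_isReduced _ _ _ big
    exact IsSchemeTheoreticallyDominant.isReduced (pullback.snd g.left p₁)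
  have : GeometricallyIntegral M'.hom :=
    GeometricallyIntegral.of_geometricallyReduced_of_geometricallyIrreducible _
  have : IsIntegral M'.left := GeometricallyIntegral.isIntegral_of_subsingleton M'.hom
  let r : M ⟶ M' := lift (𝟙 M) (toUnit M ≫ η[A]) ≫ g
  have hr : r ≫ i' = i := by
    simp only [r, Category.assoc, hgi, ψ, MonObj.comp_mul, lift_fst_assoc, lift_snd_assoc,
      Category.id_comp, MonObj.one_comp, ← Hom.one_def, _root_.mul_one]
  have hr' : r.left ≫ i'.left = i.left := congr(($hr).left)
  have : IsClosedImmersion (r.left ≫ i'.left) := by rw [hr']; infer_instance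
  have : IsClosedImmersion r.left := IsClosedImmersion.of_comp r.left i'.left
  have hdim' : IsDim G (WeilCoh.pdim G.left (i'.left (genericPoint M'.left))) :=
    ⟨M', hM', i', hi', hi'c, ‹_›, ‹_›, _, genericPoint_spec _, rfl⟩
  have hle := Nat.le_findGreatest (P := IsDim G) (hN _ hdim') hdim'
  rw [← hdim] at hle
  have hgen : r.left ξ = genericPoint M'.left := by
    apply i'.left.isClosedEmbedding.injective
    by_contra hne
    have := WeilLib.pdim_lt G.hom ((genericPoint_specializes (r.left ξ)).map i'.left.continuous) hne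
    rw [← Scheme.Hom.comp_apply, hr'] at this
    omega
  have : Surjective r.left := ⟨fun y => r.left.isClosedEmbedding.isClosed_range.stableUnderSpecialization
    (hgen ▸ genericPoint_specializes y) ⟨ξ, rfl⟩⟩
  have : IsDominant r.left := inferInstance
  have hd : IsSchemeTheoreticallyDominant r.left := IsSchemeTheoreticallyDominant.of_isDominant r.left
  have : IsIso r.left := isIso_of_isClosedImmersion_of_surjective r.left
  have : IsIso r := by
    have : IsIso ((Over.forget _).map r) := ‹IsIso r.left›
    exact isIso_of_reflects_iso r (Over.forget _)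
  refine ⟨(lift (toUnit A ≫ η[M]) (𝟙 A) ≫ g) ≫ inv r, ?_⟩
  have e : inv r ≫ i = i' := by rw [IsIso.inv_comp_eq, hr]
  rw [Category.assoc, e, Category.assoc, hgi]
  simp only [ψ, MonObj.comp_mul, lift_fst_assoc, lift_snd_assoc, Category.id_comp, Category.assoc,
    IsMonHom.one_hom i]
  rw [← Hom.one_def, _root_.one_mul]

end Groth.Agent.MaxAb
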